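import Groth.Agent.RegUFD.Basic
import Groth.Agent.InvX.Tensor
import Groth.Agent.S0065
import Groth.Agent.S7885
import Groth.Agent.MorLib.IndQA

/-!
# The affine hull of an open of a regular affine scheme

The complement of finitely many closed subsets of codimension at most one in a regular Noetherian affine scheme is
affine, hence every open subscheme has an open affine subscheme with the same functions containing it.
-/

set_option autoImplicit false
set_option backward.isDefEq.respectTransparency.types false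
set_option linter.style.haveILetI false
universe u

open CategoryTheory CategoryTheory.Limits AlgebraicGeometry TopologicalSpace

noncomputable section

namespace Groth.Agent.EtHull5

variable {T : Type u} [CommRing T] [IsNoetherianRing T]

theorem isPrincipal_of_height_le_one {A : Type u} [CommRing A] [IsDomain A] [UniqueFactorizationMonoid A]
    [IsNoetherianRing A] {p : Ideal A} [p.IsPrime] (h1 : p.height ≤ 1) : p.IsPrincipal := by
  by_cases h0 : p = ⊥
  · subst h0; exact bot_isPrincipal
  obtain ⟨q, hq, hqp⟩ := Ideal.IsPrime.exists_mem_prime_of_ne_bot ‹p.IsPrime› h0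
  refine ⟨q, le_antisymm ?_ ((Ideal.span_singleton_le_iff_mem p).2 hq)⟩
  by_contra hle
  haveI : (Ideal.span {q}).IsPrime := (Ideal.span_singleton_prime hqp.ne_zero).2 hqp
  have hlt : Ideal.span {q} < p := lt_of_le_not_ge ((Ideal.span_singleton_le_iff_mem p).2 hq) hle
  have h2 := Ideal.height_strict_mono_of_isPrime hlt
  have h3 : (1 : ℕ∞) ≤ (Ideal.span {q}).height := by
    rw [ENat.one_le_iff_ne_zero, Ne, Ideal.height_eq_zero_iff_eq_bot, Ideal.span_singleton_eq_bot]
    exact hqp.ne_zero
  exact absurd (h2.trans_le h1) (not_lt.2 h3)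

/-- Near any point a prime of height at most one is cut out by one equation. -/
theorem exists_equation (hreg : ∀ (m : Ideal T) [m.IsPrime], IsRegularLocalRing (Localization.AtPrime m))
    (P m : Ideal T) [P.IsPrime] [m.IsPrime] (hP : P.height ≤ 1) :
    ∃ f t : T, f ∉ m ∧ ∀ q : Ideal T, q.IsPrime → f ∉ q → (t ∈ q ↔ P ≤ q) := by
  classical
  by_cases hPm : P ≤ m
  · let A := Localization.AtPrime m
    haveI : IsRegularLocalRing A := hreg m
    obtain ⟨_, _⟩ := RegUFD.ufd A
    have hd : Disjoint (m.primeCompl : Set T) P := Set.disjoint_left.2 fun x hx hxP => hx (hPm hxP)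
    haveI := IsLocalization.isPrime_of_isPrime_disjoint m.primeCompl A P ‹_› hd
    obtain ⟨π, hπ⟩ := isPrincipal_of_height_le_one (p := P.map (algebraMap T A))
      (by rwa [IsLocalization.height_map_of_disjoint m.primeCompl P hd])
    obtain ⟨⟨t, s⟩, hts⟩ := IsLocalization.surj m.primeCompl π
    have hspan : P.map (algebraMap T A) = (Ideal.span {t}).map (algebraMap T A) := by
      rw [hπ, Ideal.map_span, Set.image_singleton, ← hts]
      exact (Ideal.span_singleton_mul_right_unit (IsLocalization.map_units A s) π).symm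
    have htP : t ∈ P := by
      rw [← IsLocalization.comap_map_of_isPrime_disjoint m.primeCompl A ‹_› hd, Ideal.mem_comap, hspan]
      exact Ideal.mem_map_of_mem _ (Ideal.mem_span_singleton_self t)
    obtain ⟨G, hG⟩ := (IsNoetherian.noetherian P : P.FG)
    have hg : ∀ g ∈ G, ∃ σ : T, σ ∉ m ∧ σ * g ∈ Ideal.span {t} := fun g hg => by
      have hgP : g ∈ P := hG ▸ Submodule.subset_span hg
      obtain ⟨σ, hσ, h⟩ := (IsLocalization.algebraMap_mem_map_algebraMap_iff m.primeCompl A _ g).1
        (hspan ▸ Ideal.mem_map_of_mem (algebraMap T A) hgP)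
      exact ⟨σ, hσ, h⟩
    choose! σ hσ hσg using hg
    refine ⟨∏ g ∈ G, σ g, t, fun h => ?_, fun q hq hf => ⟨fun htq => ?_, fun h => h htP⟩⟩
    · obtain ⟨g, hg, h'⟩ := (Ideal.IsPrime.prod_mem_iff (p := m)).1 h
      exact hσ g hg h'
    · rw [← hG]
      refine Ideal.span_le.2 fun g hg => (hq.mem_or_mem ?_).resolve_left fun h =>
        hf (Ideal.prod_mem q hg h)
      exact (Ideal.span_singleton_le_iff_mem q).2 htq (hσg g hg)
  · obtain ⟨f, hfP, hfm⟩ := SetLike.not_le_iff_exists.1 hPm
    exact ⟨f, 1, hfm, fun q hq hf =>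
      ⟨fun h => absurd ((Ideal.eq_top_iff_one q).2 h) hq.ne_top, fun h => absurd (h hfP) hf⟩⟩

/-- Near any point a finite union of such closed sets is cut out by one equation. -/
theorem exists_equation_finset (hreg : ∀ (m : Ideal T) [m.IsPrime], IsRegularLocalRing (Localization.AtPrime m))
    (S : Finset (PrimeSpectrum T)) (hS : ∀ P ∈ S, P.asIdeal.height ≤ 1) (m : PrimeSpectrum T) :
    ∃ f t : T, f ∉ m.asIdeal ∧ ∀ q : PrimeSpectrum T, f ∉ q.asIdeal →
      (t ∉ q.asIdeal ↔ ∀ P ∈ S, ¬P.asIdeal ≤ q.asIdeal) := by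
  classical
  induction S using Finset.induction with
  | empty => exact ⟨1, 1, fun h => m.isPrime.ne_top ((Ideal.eq_top_iff_one _).2 h),
      fun q h => ⟨fun _ P hP => absurd hP (Finset.notMem_empty P), fun _ => h⟩⟩
  | @insert P S _ ih =>
    obtain ⟨f, t, hf, h⟩ := ih fun Q hQ => hS Q (Finset.mem_insert_of_mem hQ)
    obtain ⟨f', t', hf', h'⟩ := exists_equation hreg P.asIdeal m.asIdeal (hS P (Finset.mem_insert_self P S))
    refine ⟨f' * f, t' * t, fun hmem => (m.isPrime.mem_or_mem hmem).elim hf' hf, fun q hq => ?_⟩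
    have hqf' : f' ∉ q.asIdeal := fun h0 => hq (Ideal.mul_mem_right _ _ h0)
    have hqf : f ∉ q.asIdeal := fun h0 => hq (Ideal.mul_mem_left _ _ h0)
    rw [Finset.forall_mem_insert, ← h q hqf, ← h' q.asIdeal q.isPrime hqf']
    exact ⟨fun h0 => ⟨fun h1 => h0 (Ideal.mul_mem_right _ _ h1), fun h1 => h0 (Ideal.mul_mem_left _ _ h1)⟩,
      fun h0 h1 => (q.isPrime.mem_or_mem h1).elim h0.1 h0.2⟩

section Scheme

variable (R : CommRingCat.{u}) [IsNoetherianRing R]

/-- The stalks of an open subscheme of a spectrum. -/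
def stalkEquiv (V : (Spec R).Opens) (x : (V : Scheme.{u})) :
    (V : Scheme.{u}).presheaf.stalk x ≃+* Localization.AtPrime (x.1 : PrimeSpectrum R).asIdeal :=
  (V.stalkIso x).commRingCatIsoToRingEquiv.trans (StructureSheaf.stalkIso R (x.1 : PrimeSpectrum R)).toRingEquiv.symm

/-- An open subscheme of a regular affine scheme has the functions of an affine open containing it. -/
theorem exists_affine_hull (hreg : ∀ (m : Ideal R) [m.IsPrime], IsRegularLocalRing (Localization.AtPrime m))
    {U : Scheme.{u}} (j : U ⟶ Spec R) [IsOpenImmersion j] :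
    ∃ (V : (Spec R).Opens) (jV : U ⟶ V), IsAffineOpen V ∧ jV ≫ V.ι = j ∧ IsIso jV.appTop := by
  classical
  let Z : Set (PrimeSpectrum R) := (SetLike.coe j.opensRange)ᶜ
  let I := PrimeSpectrum.vanishingIdeal Z
  have hZ : PrimeSpectrum.zeroLocus (I : Set R) = Z := by
    rw [PrimeSpectrum.zeroLocus_vanishingIdeal_eq_closure]
    exact j.opensRange.2.isClosed_compl.closure_eq
  let S : Finset (PrimeSpectrum R) :=
    ((I.finite_minimalPrimes_of_isNoetherianRing R).preimage
      (f := PrimeSpectrum.asIdeal) fun _ _ _ _ h => PrimeSpectrum.ext h).toFinset.filter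
      fun P => P.asIdeal.height ≤ 1
  have hS : ∀ P ∈ S, P.asIdeal.height ≤ 1 := fun P hP => (Finset.mem_filter.1 hP).2
  let V : (Spec R).Opens := ⟨(⋃ P ∈ S, PrimeSpectrum.zeroLocus (P.asIdeal : Set R))ᶜ,
    (isClosed_biUnion_finset fun P _ => PrimeSpectrum.isClosed_zeroLocus _).isOpen_compl⟩
  have memV : ∀ q : PrimeSpectrum R, q ∈ V ↔ ∀ P ∈ S, ¬P.asIdeal ≤ q.asIdeal := fun q => by
    show q ∈ ((⋃ P ∈ S, PrimeSpectrum.zeroLocus (P.asIdeal : Set R))ᶜ) ↔ _
    simp only [Set.mem_compl_iff, Set.mem_iUnion, PrimeSpectrum.mem_zeroLocus, SetLike.coe_subset_coe,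
      not_exists]
  have hle : j.opensRange ≤ V := fun q hq => (memV q).2 fun P hP hPq => by
    have hP' : P.asIdeal ∈ I.minimalPrimes :=
      (Set.Finite.mem_toFinset (s := PrimeSpectrum.asIdeal ⁻¹' I.minimalPrimes) _).1 (Finset.mem_filter.1 hP).1
    have hmem : q ∈ PrimeSpectrum.zeroLocus (I : Set R) := hP'.1.2.trans hPq
    rw [hZ] at hmem
    exact hmem hq
  have hVa : IsAffineOpen V := by
    haveI : IsAffineHom V.ι := by
      refine isAffineHom_of_forall_exists_isAffineOpen _ fun m => ?_
      obtain ⟨f, t, hf, h⟩ := exists_equation_finset hreg S hS m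
      refine ⟨PrimeSpectrum.basicOpen f, hf, IsAffineOpen.Spec_basicOpen f, ?_⟩
      rw [← V.ι.isAffineOpen_iff_of_isOpenImmersion, Scheme.Hom.image_preimage_eq_opensRange_inf,
        Scheme.Opens.opensRange_ι]
      convert IsAffineOpen.Spec_basicOpen (f * t) using 1
      ext q
      show (q ∈ V ∧ f ∉ q.asIdeal) ↔ f * t ∉ q.asIdeal
      exact ⟨fun ⟨h1, h2⟩ h3 => (q.isPrime.mem_or_mem h3).elim h2 ((h q h2).2 ((memV q).1 h1)),
        fun h0 => ⟨(memV q).2 ((h q fun h1 => h0 (Ideal.mul_mem_right _ _ h1)).1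
          fun h1 => h0 (Ideal.mul_mem_left _ _ h1)), fun h1 => h0 (Ideal.mul_mem_right _ _ h1)⟩⟩
    exact isAffine_of_isAffineHom V.ι
  let jV : U ⟶ V := IsOpenImmersion.lift V.ι j (by
    rw [Scheme.Opens.range_ι]; exact fun x hx => hle hx)
  have hjV : jV ≫ V.ι = j := IsOpenImmersion.lift_fac _ _ _
  haveI : IsOpenImmersion (jV ≫ V.ι) := hjV ▸ ‹IsOpenImmersion j›
  haveI : IsOpenImmersion jV := IsOpenImmersion.of_comp jV V.ι
  have hT : ∀ x : (V : Scheme.{u}), IsRegularLocalRing ((V : Scheme.{u}).presheaf.stalk x) := fun x => by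
    haveI := hreg (x.1 : PrimeSpectrum R).asIdeal
    exact IsRegularLocalRing.of_ringEquiv (stalkEquiv R V x).symm
  have hbij := (Groth.Agent.S7885.result (V : Scheme.{u}) (fun x => by
      haveI := hT x
      obtain ⟨_, _⟩ := RegUFD.ufd ((V : Scheme.{u}).presheaf.stalk x)
      exact ⟨inferInstance, inferInstance⟩) jV.opensRange (fun x hx => ?_)
    (Coh.structureModule (V : Scheme.{u})) InvX.isInvertible_structureModule).1
  · refine ⟨V, jV, hVa, hjV, ?_⟩
    haveI : IsIso ((V : Scheme.{u}).presheaf.map (homOfLE (le_top (a := jV.opensRange))).op) :=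
      (ConcreteCategory.isIso_iff_bijective _).2 hbij
    haveI := jV.isIso_app jV.opensRange le_rfl
    have : jV.appTop = (V : Scheme.{u}).presheaf.map (homOfLE (le_top (a := jV.opensRange))).op ≫
        jV.app jV.opensRange ≫ U.presheaf.map (eqToHom jV.preimage_opensRange.symm).op := by
      rw [← Category.assoc, Scheme.Hom.naturality, Category.assoc, ← U.presheaf.map_comp]
      exact ((congrArg (jV.appTop ≫ ·) (U.presheaf.map_id _)).trans (Category.comp_id _)).symm
    rw [this]; infer_instance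
  · let q : PrimeSpectrum R := x.1
    have hq : q ∉ j.opensRange := by
      rintro ⟨y, hy⟩
      refine hx ⟨y, Subtype.ext ?_⟩
      rw [← hjV] at hy
      exact hy
    have hqI : q ∈ PrimeSpectrum.zeroLocus (I : Set R) := by rw [hZ]; exact hq
    obtain ⟨P, hP, hPq⟩ := Ideal.exists_minimalPrimes_le (show I ≤ q.asIdeal from hqI)
    haveI := hP.1.1
    have h2 : ¬P.height ≤ 1 := fun h => (memV q).1 x.2 ⟨P, hP.1.1⟩
      (Finset.mem_filter.2 ⟨(Set.Finite.mem_toFinset _).2 hP, h⟩) hPq
    refine le_trans ?_ (le_of_eq (ringKrullDim_eq_of_ringEquiv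
      (stalkEquiv R V x)).symm)
    rw [IsLocalization.AtPrime.ringKrullDim_eq_height q.asIdeal]
    exact WithBot.coe_le_coe.2 ((Order.add_one_le_of_lt (not_le.1 h2)).trans (Ideal.height_mono hPq))

/-- Regularity of the prime spectrum's local rings, read on the localizations. -/
theorem isRegularLocalRing_localization_iff {R : CommRingCat.{u}} (x : Spec R) :
    IsRegularLocalRing ((Spec R).presheaf.stalk x) ↔
      IsRegularLocalRing (Localization.AtPrime (x : PrimeSpectrum R).asIdeal) :=
  let e : (Spec R).presheaf.stalk x ≃+* Localization.AtPrime (x : PrimeSpectrum R).asIdeal :=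
    (StructureSheaf.stalkIso R (x : PrimeSpectrum R)).toRingEquiv.symm
  ⟨fun _ => IsRegularLocalRing.of_ringEquiv e, fun _ => IsRegularLocalRing.of_ringEquiv e.symm⟩

/-- A scheme étale over a regular affine scheme has regular local rings. -/
theorem regular_of_etale {A : CommRingCat.{u}} [IsLocallyNoetherian (Spec A)] {B : CommRingCat.{u}}
    (hreg : ∀ (P : Ideal A) [P.IsPrime], IsRegularLocalRing (Localization.AtPrime P))
    (g : Spec B ⟶ Spec A) [Etale g] (m : Ideal B) [m.IsPrime] : IsRegularLocalRing (Localization.AtPrime m) := by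
  let x : Spec B := (⟨m, inferInstance⟩ : PrimeSpectrum B)
  exact (isRegularLocalRing_localization_iff x).1 ((Groth.Agent.S0065.result g x).2
    ((isRegularLocalRing_localization_iff _).2 (hreg _)))

end Scheme

end Groth.Agent.EtHull5
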