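import Groth.Agent.EtHull5.Basic

/-!
# Scheme theoretic dominance of flat morphisms and associated points
-/

set_option autoImplicit false
set_option backward.isDefEq.respectTransparency false
set_option backward.isDefEq.respectTransparency.types false

universe u

open CategoryTheory CategoryTheory.Limits AlgebraicGeometry TopologicalSpace

namespace Groth.Agent.EtHull5

/-- A scheme theoretically dominant flat morphism hits every associated point. -/
theorem mem_range_of_dominant {X E : Scheme.{u}} [IsLocallyNoetherian E] (u : X ⟶ E) [Flat u]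
    [IsSchemeTheoreticallyDominant u] {z : E} (hz : z ∈ AssSch.Ass (Coh.structureModule E)) :
    z ∈ Set.range u := by
  by_contra hn
  let o : E.Opens := ⟨(closure {z})ᶜ, isClosed_closure.isOpen_compl⟩
  have hr : Set.range u ⊆ Set.range o.ι := by
    rw [Scheme.Opens.range_ι]
    rintro _ ⟨x, rfl⟩ hx
    obtain ⟨x', -, hx'⟩ := Flat.generalizingMap u (specializes_iff_mem_closure.2 hx)
    exact hn ⟨x', hx'⟩
  have hker : o.ι.ker = ⊥ := by
    refine le_bot_iff.1 ((Scheme.Hom.le_ker_comp (IsOpenImmersion.lift o.ι u hr) o.ι).trans ?_)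
    rw [IsOpenImmersion.lift_fac]
    exact (IsSchemeTheoreticallyDominant.ker_eq_bot u).le
  obtain ⟨U, hU, hzU, -⟩ := exists_isAffineOpen_mem_and_subset (x := z) (U := ⊤) trivial
  haveI : IsNoetherianRing Γ(E, U) := IsLocallyNoetherian.component_noetherian ⟨U, hU⟩
  have hM : Coh.IsQCoh (Coh.structureModule E) := PnCoh.isQCoh_structureModule E
  obtain ⟨hp, s, hs⟩ := (isAssociatedPrime_iff).1 ((AssLib.mem_ass_iff hM hU hzU).1 hz)
  have hsker : RingHom.ker (o.ι.app U).hom = ⊥ := by
    rw [← Scheme.Hom.ker_apply o.ι ⟨U, hU⟩, hker]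
    rfl
  have hs00 : (o.ι.app U).hom s = 0 := by
    refine o.toScheme.IsSheaf.section_ext fun y hy => ?_
    obtain ⟨r, hr₁, hr₂⟩ := Set.not_subset.1 fun hle =>
      (show o.ι y ∈ o from y.2) (specializes_iff_mem_closure.1 ((AssLib.primeIdealOf_le_iff hU (x := o.ι y) hy hzU).1 hle))
    rw [SetLike.mem_coe, hs] at hr₁
    have hrs : (show Γ(E, U) from r) * (show Γ(E, U) from s) = 0 := Submodule.mem_colon_singleton.1 hr₁
    have hu : IsUnit (E.presheaf.germ U (o.ι y) hy r) :=
      (Scheme.mem_basicOpen E r (o.ι y) hy).1 ((QCoh.mem_basicOpen_iff_notMem hU hy r).2 hr₂)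
    have h0 : E.presheaf.germ U (o.ι y) hy s = E.presheaf.germ U (o.ι y) hy 0 := by
      rw [map_zero]
      refine hu.mul_right_eq_zero.1 ?_
      exact ((E.presheaf.germ U (o.ι y) hy).hom.map_mul r s).symm.trans ((congrArg _ hrs).trans (map_zero _))
    obtain ⟨W, hW, i, i', he⟩ := E.presheaf.germ_eq (o.ι y) hy hy s 0 h0
    refine ⟨o.ι ⁻¹ᵁ W, (fun a ha => i.le ha), hW, ?_⟩
    have e := congrArg (fun g => g s) (o.ι.naturality i.op)
    simp only [CommRingCat.comp_apply] at e
    rw [map_zero]
    refine Eq.trans ?_ ((congrArg (o.ι.app W).hom (he.trans (map_zero _))).trans (map_zero _))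
    exact e.symm
  have : s = 0 := (RingHom.injective_iff_ker_eq_bot _).2 hsker (hs00.trans (map_zero _).symm)
  apply hp.ne_top
  rw [hs, Ideal.eq_top_iff_one, Submodule.mem_colon_singleton, this, smul_zero]
  exact zero_mem _

/-- Associated points of an étale scheme are the points over the associated points of the base. -/
theorem mem_ass_iff_of_etale {E S : Scheme.{u}} [IsLocallyNoetherian S] [IsLocallyNoetherian E]
    (g : E ⟶ S) [Etale g] (z : E) :
    z ∈ AssSch.Ass (Coh.structureModule E) ↔ g z ∈ AssSch.Ass (Coh.structureModule S) := by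
  rw [AssLib.mem_ass_structureModule_iff, AssLib.mem_ass_structureModule_iff]
  refine ⟨AssLib.depthZero_map g, fun h => ?_⟩
  haveI := UnibEtale.locallyQuasiFinite_of_formallyUnramified g
  haveI : DiscreteTopology ↥(g ⁻¹' {g z}) := (g.isDiscrete_preimage_singleton (g z)).to_subtype
  letI := (g.stalkMap z).hom.toAlgebra
  haveI : IsLocalHom (algebraMap (S.presheaf.stalk (g z)) (E.presheaf.stalk z)) :=
    inferInstanceAs (IsLocalHom (g.stalkMap z).hom)
  haveI : Module.Flat (S.presheaf.stalk (g z)) (E.presheaf.stalk z) := Flat.stalkMap g z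
  refine AssLib.depthZero_up h fun P hP hle => ?_
  let q : Spec (E.presheaf.stalk z) := ⟨P, hP⟩
  have hqc : q ⤳ IsLocalRing.closedPoint (E.presheaf.stalk z) :=
    (PrimeSpectrum.le_iff_specializes _ _).1 (IsLocalRing.le_maximalIdeal hP.ne_top)
  have hz' : E.fromSpecStalk z q ⤳ z := by
    have := hqc.map (E.fromSpecStalk z).continuous
    rwa [Scheme.fromSpecStalk_closedPoint] at this
  have hc : Spec.map (g.stalkMap z) q = IsLocalRing.closedPoint (S.presheaf.stalk (g z)) := by
    refine PrimeSpectrum.ext ?_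
    exact ((IsLocalRing.maximalIdeal.isMaximal _).eq_of_le (Ideal.IsPrime.ne_top inferInstance)
      (Ideal.map_le_iff_le_comap.1 hle)).symm
  have hg : g (E.fromSpecStalk z q) = g z := by
    rw [← Scheme.Hom.comp_apply, ← Scheme.SpecMap_stalkMap_fromSpecStalk, Scheme.Hom.comp_apply, hc,
      Scheme.fromSpecStalk_closedPoint]
  have hs : (⟨_, hg⟩ : ↥(g ⁻¹' {g z})) ⤳ ⟨z, rfl⟩ := Topology.IsInducing.subtypeVal.specializes_iff.1 hz'
  have := congrArg Subtype.val hs.eq
  have e : q = IsLocalRing.closedPoint (E.presheaf.stalk z) :=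
    (E.fromSpecStalk z).isEmbedding.injective (this.trans (Scheme.fromSpecStalk_closedPoint).symm)
  exact congrArg PrimeSpectrum.asIdeal e

end Groth.Agent.EtHull5
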