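import Groth.Agent.EtHull5.Basic
import Groth.Agent.S5161
import Groth.Agent.S2299

/-!
# Existence of greatest dominant étale affine factorizations
-/

set_option autoImplicit false
set_option backward.isDefEq.respectTransparency false
set_option backward.isDefEq.respectTransparency.types false

universe u

open CategoryTheory CategoryTheory.Limits AlgebraicGeometry TopologicalSpace

namespace Groth.Agent.EtHull5

variable {X S : Scheme.{u}} (f : X ⟶ S)

/-- A factorization through an étale affine scheme with scheme theoretically dominant first arrow. -/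
structure Fac where
  E : Scheme.{u}
  g : E ⟶ S
  u : X ⟶ E
  etale : Etale g
  affine : IsAffineHom g
  dom : IsSchemeTheoreticallyDominant u
  fac : u ≫ g = f

namespace Fac

variable {f}

/-- The existence of a morphism of factorizations. -/
def LE (F G : Fac f) : Prop := ∃ v : G.E ⟶ F.E, G.u ≫ v = F.u ∧ v ≫ F.g = G.g

theorem LE.trans {F G H : Fac f} (h₁ : F.LE G) (h₂ : G.LE H) : F.LE H := by
  obtain ⟨v, hv, hv'⟩ := h₁
  obtain ⟨w, hw, hw'⟩ := h₂
  exact ⟨w ≫ v, by rw [← Category.assoc, hw, hv], by rw [Category.assoc, hv', hw']⟩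

/-- The pairs of points of `X` which the factorization does not separate. -/
def K (F : Fac f) : Set (pullback f f : Scheme.{u}) :=
  pullback.map f f F.g F.g F.u F.u (𝟙 S) (by simp [F.fac]) (by simp [F.fac]) ⁻¹' Set.range (pullback.diagonal F.g)

theorem isClopen_K (F : Fac f) : IsClopen F.K := by
  haveI := F.etale
  haveI := F.affine
  exact ⟨(pullback.diagonal F.g).isClosedEmbedding.isClosed_range.preimage (Scheme.Hom.continuous _),
    (pullback.diagonal F.g).isOpenEmbedding.isOpen_range.preimage (Scheme.Hom.continuous _)⟩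

theorem K_mono {F G : Fac f} (v : G.E ⟶ F.E) (hv : G.u ≫ v = F.u) (hv' : v ≫ F.g = G.g) : G.K ⊆ F.K := by
  rintro p ⟨t, ht⟩
  refine ⟨v t, ?_⟩
  let m := pullback.map G.g G.g F.g F.g v v (𝟙 S) (by simp [hv']) (by simp [hv'])
  have h1 : pullback.map f f F.g F.g F.u F.u (𝟙 S) (by simp [F.fac]) (by simp [F.fac]) =
      pullback.map f f G.g G.g G.u G.u (𝟙 S) (by simp [G.fac]) (by simp [G.fac]) ≫ m := by
    ext <;> simp [m, hv]
  have h2 : v ≫ pullback.diagonal F.g = pullback.diagonal G.g ≫ m := by ext <;> simp [m]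
  show (pullback.diagonal F.g) (v t) = _
  rw [h1, Scheme.Hom.comp_apply, ← ht, ← Scheme.Hom.comp_apply, h2, Scheme.Hom.comp_apply]

end Fac

variable [IsNoetherian S] (hS : ∀ s : S, CAlg2.IsGeomUnibranch (S.presheaf.stalk s))
  (hemb : AssSch.NoEmbedded (Coh.structureModule S))
  [Flat f] [LocallyOfFinitePresentation f] [QuasiCompact f] [QuasiSeparated f]

/-- A clopen subset of a space with finitely many components is one of finitely many. -/
theorem finite_clopens {T : Type u} [TopologicalSpace T] [NoetherianSpace T] :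
    {A : Set T | IsClopen A}.Finite := by
  refine ((NoetherianSpace.finite_irreducibleComponents (α := T)).powerset.image (Set.sUnion : Set (Set T) → Set T)).subset fun A hA => ?_
  refine ⟨{Z ∈ irreducibleComponents T | Z ⊆ A}, fun Z hZ => hZ.1, Set.Subset.antisymm
    (Set.sUnion_subset fun Z hZ => hZ.2) fun a ha => ⟨_, ⟨irreducibleComponent_mem_irreducibleComponents a,
      (IsIrreducible.isConnected isIrreducible_irreducibleComponent).isPreconnected.subset_isClopen hA ⟨a, mem_irreducibleComponent, ha⟩⟩,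
      mem_irreducibleComponent⟩⟩

include hemb in
/-- The image of a dominant factorization contains every maximal point. -/
theorem mem_range_of_maximal (F : Fac f) {z : F.E} (hz : ∀ y, y ⤳ z → y = z) : z ∈ Set.range F.u := by
  haveI := F.etale
  haveI := F.affine
  haveI := F.dom
  haveI := isNoetherian_of_etale_affine F.g
  haveI : Flat (F.u ≫ F.g) := by rw [F.fac]; infer_instance
  haveI : LocallyOfFinitePresentation (F.u ≫ F.g) := by rw [F.fac]; infer_instance
  obtain ⟨_, _⟩ := flat_lfp_of_comp_etale F.g F.u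
  haveI : QuasiCompact F.u := by
    haveI : QuasiCompact (F.u ≫ F.g) := by rw [F.fac]; infer_instance
    exact QuasiCompact.of_comp F.u F.g
  have hfin : (irreducibleComponents ↥F.E).Finite := NoetherianSpace.finite_irreducibleComponents
  obtain ⟨o, ho, hoZ, hne⟩ : ∃ o : Set F.E, IsOpen o ∧ o ⊆ closure {z} ∧ o.Nonempty := by
    let Zs := {W ∈ irreducibleComponents ↥F.E | z ∉ W}
    refine ⟨(⋃₀ Zs)ᶜ, ?_, fun w hw => ?_, z, fun ⟨W, hW, hzW⟩ => hW.2 hzW⟩
    · rw [Set.sUnion_eq_biUnion]
      exact ((hfin.subset fun W hW => hW.1).isClosed_biUnion fun W hW =>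
        isClosed_of_mem_irreducibleComponents _ hW.1).isOpen_compl
    · have hc := irreducibleComponent_mem_irreducibleComponents w
      have hzc : z ∈ irreducibleComponent w := by
        by_contra hn
        exact hw ⟨_, ⟨hc, hn⟩, mem_irreducibleComponent⟩
      obtain ⟨η, hη⟩ : ∃ η, IsGenericPoint η (irreducibleComponent w) :=
        ⟨_, hc.1.isGenericPoint_genericPoint (isClosed_of_mem_irreducibleComponents _ hc)⟩
      rw [← hz η (hη.specializes hzc)]
      exact hη.def.ge mem_irreducibleComponent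
  obtain ⟨w, hw, hwR⟩ := F.u.denseRange.inter_open_nonempty o ho hne
  exact (specializes_iff_mem_closure.2 (hoZ hw)).mem_open F.u.isOpenMap.isOpen_range hwR

include hemb in
/-- A morphism of factorizations which does not separate more pairs is an open immersion. -/
theorem isOpenImmersion_of_K_eq {F G : Fac f} (v : G.E ⟶ F.E) (hv : G.u ≫ v = F.u) (hv' : v ≫ F.g = G.g)
    (hK : F.K ⊆ G.K) : IsOpenImmersion v := by
  haveI := F.etale
  haveI := F.affine
  haveI := G.etale
  haveI := G.affine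
  haveI : Etale (v ≫ F.g) := by rw [hv']; infer_instance
  haveI : IsAffineHom (v ≫ F.g) := by rw [hv']; infer_instance
  haveI : Etale v := Etale.of_comp v F.g
  haveI : IsSeparated v := IsSeparated.of_comp v F.g
  haveI : Mono v := by
    rw [← pullback.isIso_diagonal_iff]
    haveI : IsOpenImmersion (pullback.diagonal v) := inferInstance
    haveI : Surjective (pullback.diagonal v) := ⟨fun d => by
      let m := pullback.map v v G.g G.g (𝟙 _) (𝟙 _) F.g (by simp [hv']) (by simp [hv'])
      have hm : IsPullback (pullback.fst v v ≫ v) m (pullback.diagonal F.g)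
          (pullback.map G.g G.g F.g F.g v v (𝟙 S) (by simp [hv']) (by simp [hv'])) := by
        refine ⟨⟨by ext <;> simp [m, pullback.condition]⟩, ⟨PullbackCone.IsLimit.mk _
          (fun s => pullback.lift (s.snd ≫ pullback.fst _ _) (s.snd ≫ pullback.snd _ _) ?_) ?_ ?_ ?_⟩⟩
        · have h1 := congrArg (· ≫ pullback.fst F.g F.g) s.condition
          have h2 := congrArg (· ≫ pullback.snd F.g F.g) s.condition
          simp at h1 h2 ⊢
          rw [← h1, ← h2]
        · intro s
          have h1 := congrArg (· ≫ pullback.fst F.g F.g) s.condition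
          simp at h1
          simp [h1]
        · intro s
          ext <;> simp [m]
        · intro s k _ hk2
          have h1 := congrArg (· ≫ pullback.fst G.g G.g) hk2
          have h2 := congrArg (· ≫ pullback.snd G.g G.g) hk2
          ext
          · simpa [m] using h1
          · simpa [m] using h2
      haveI : IsOpenImmersion m := MorphismProperty.of_isPullback (P := @IsOpenImmersion) hm inferInstance
      obtain ⟨e₀, he₀, hmax⟩ := FibDim.exists_maximal_generization (m d)
      obtain ⟨d₀, hd₀⟩ := he₀.mem_open m.isOpenEmbedding.isOpen_range ⟨d, rfl⟩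
      have hgen : ∀ (k : pullback G.g G.g ⟶ G.E), Flat k → ∀ y, y ⤳ k e₀ → y = k e₀ := fun k hk y hy => by
        obtain ⟨x, hx, hxy⟩ := Flat.generalizingMap k hy
        rw [← hxy, hmax x hx]
      have h1 := mem_range_of_maximal f hemb G (hgen (pullback.fst G.g G.g) inferInstance)
      have h2 := mem_range_of_maximal f hemb G (hgen (pullback.snd G.g G.g) inferInstance)
      obtain ⟨p, hp⟩ : e₀ ∈ Set.range (pullback.map f f G.g G.g G.u G.u (𝟙 S) (by simp [G.fac]) (by simp [G.fac])) := by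
        rw [Scheme.Pullback.range_map]
        exact ⟨h1, h2⟩
      have hpF : p ∈ F.K := by
        refine ⟨(pullback.fst v v ≫ v) d₀, ?_⟩
        have e1 : pullback.map f f F.g F.g F.u F.u (𝟙 S) (by simp [F.fac]) (by simp [F.fac]) =
            pullback.map f f G.g G.g G.u G.u (𝟙 S) (by simp [G.fac]) (by simp [G.fac]) ≫
              pullback.map G.g G.g F.g F.g v v (𝟙 S) (by simp [hv']) (by simp [hv']) := by
          ext <;> simp [hv]
        rw [e1]
        simp only [Scheme.Hom.comp_apply]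
        rw [hp, ← hd₀]
        simp only [← Scheme.Hom.comp_apply, ← hm.w]
      obtain ⟨t, ht⟩ : m d ∈ Set.range (pullback.diagonal G.g) := by
        refine he₀.mem_closed (pullback.diagonal G.g).isClosedEmbedding.isClosed_range ?_
        obtain ⟨t, ht⟩ := hK hpF
        exact ⟨t, ht.trans hp⟩
      refine ⟨t, m.isOpenEmbedding.injective ?_⟩
      rw [← ht]
      show (pullback.diagonal v ≫ m) t = (pullback.diagonal G.g) t
      rw [show pullback.diagonal v ≫ m = pullback.diagonal G.g by ext <;> simp [m]]⟩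
    exact (isIso_iff_isOpenImmersion_and_epi_base (f := pullback.diagonal v)).2
      ⟨inferInstance, (TopCat.epi_iff_surjective _).2 (pullback.diagonal v).surjective⟩
  exact IsOpenImmersion.of_flat_of_mono v

include hemb in
/-- The possible shrinkings of a factorization. -/
theorem finite_shrinkings (F : Fac f) :
    {U : F.E.Opens | IsAffineHom U.ι ∧ Set.range F.u ⊆ (U : Set F.E)}.Finite := by
  haveI := F.etale
  haveI := F.affine
  haveI := isNoetherian_of_etale_affine F.g
  haveI : Flat (F.u ≫ F.g) := by rw [F.fac]; infer_instance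
  haveI : LocallyOfFinitePresentation (F.u ≫ F.g) := by rw [F.fac]; infer_instance
  obtain ⟨_, _⟩ := flat_lfp_of_comp_etale F.g F.u
  let T₀ : Set F.E := (Set.range F.u)ᶜ
  haveI : IsClosed T₀ := F.u.isOpenMap.isOpen_range.isClosed_compl
  let M : Set F.E := {z | z ∈ T₀ ∧ ∀ y ∈ T₀, y ⤳ z → y = z}
  have hM : M.Finite := by
    have hfin : (irreducibleComponents ↥T₀).Finite := NoetherianSpace.finite_irreducibleComponents
    refine Set.Finite.of_finite_image (f := (fun z => Subtype.val ⁻¹' closure {z} : F.E → Set T₀))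
      (hfin.subset ?_) fun z hz z' hz' h => ?_
    · rintro _ ⟨z, ⟨hz, hmax⟩, rfl⟩
      have hc : (Subtype.val ⁻¹' closure {z} : Set T₀) = closure {(⟨z, hz⟩ : T₀)} := by
        rw [Topology.IsInducing.subtypeVal.closure_eq_preimage_closure_image, Set.image_singleton]
      refine ⟨by show IsIrreducible (Subtype.val ⁻¹' closure {z} : Set T₀); rw [hc]; exact isIrreducible_singleton.closure, fun W hW hle => ?_⟩
      obtain ⟨η, hη⟩ : ∃ η : F.E, IsGenericPoint η (closure (Subtype.val '' W)) :=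
        ⟨_, ((hW.image _ continuous_subtype_val.continuousOn).closure).isGenericPoint_genericPoint isClosed_closure⟩
      have hηT : η ∈ T₀ := (IsClosed.closure_subset_iff ‹_›).2 (Subtype.coe_image_subset _ _) hη.mem
      have : η = z := hmax η hηT (hη.specializes (subset_closure ⟨⟨z, hz⟩, hle (subset_closure rfl), rfl⟩))
      intro w hw
      show (w : F.E) ∈ closure {z}
      rw [← this, hη.def]
      exact subset_closure ⟨w, hw, rfl⟩
    · have e1 : z ⤳ z' := specializes_iff_mem_closure.2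
        (Set.ext_iff.1 h ⟨z', hz'.1⟩ |>.2 (subset_closure rfl))
      exact hz'.2 z hz.1 e1
  refine Set.Finite.of_finite_image (f := fun U : F.E.Opens => M \ (U : Set F.E))
    (hM.powerset.subset ?_) ?_
  · rintro _ ⟨U, -, rfl⟩
    exact Set.sdiff_subset
  · have key : ∀ U : F.E.Opens, IsAffineHom U.ι → Set.range F.u ⊆ (U : Set F.E) →
        ∀ x ∉ U, ∃ z ∈ M \ (U : Set F.E), z ⤳ x := by
      intro U hU hRU x hx
      haveI : IsClosed (U : Set F.E)ᶜ := U.isOpen.isClosed_compl
      haveI : QuasiSober ↥((U : Set F.E)ᶜ) := U.isOpen.isClosed_compl.isClosedEmbedding_subtypeVal.quasiSober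
      obtain ⟨η, hηx, hη⟩ := FibDim.exists_maximal_generization (⟨x, hx⟩ : ↥((U : Set F.E)ᶜ))
      refine ⟨η.1, ⟨⟨fun h => η.2 (hRU h), fun y hy hyη => ?_⟩, η.2⟩, hηx.map continuous_subtype_val⟩
      by_cases hyU : y ∈ U
      swap
      · exact congrArg Subtype.val (hη ⟨y, hyU⟩ (Topology.IsInducing.subtypeVal.specializes_iff.1 hyη))
      refine absurd (mem_range_of_maximal f hemb F (z := y) fun w hw => ?_) hy
      obtain ⟨V, hV, hηV, -⟩ := exists_isAffineOpen_mem_and_subset (x := η.1) (U := ⊤) trivial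
      haveI : IsNoetherianRing Γ(F.E, V) := IsLocallyNoetherian.component_noetherian ⟨V, hV⟩
      let W := hV.fromSpec ⁻¹ᵁ (U ⊓ V)
      have hUV : IsAffineOpen (U ⊓ V) := by
        have := (hV.preimage U.ι).image_of_isOpenImmersion U.ι
        rwa [Scheme.Hom.image_preimage_eq_opensRange_inf, Scheme.Opens.opensRange_ι] at this
      have hW : IsAffineOpen W :=
        hUV.preimage_of_isOpenImmersion hV.fromSpec (by rw [hV.opensRange_fromSpec]; exact inf_le_right)
      have hyV : y ∈ V := hyη.mem_open V.isOpen hηV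
      have hwV : w ∈ V := hw.mem_open V.isOpen hyV
      let pη := hV.primeIdealOf ⟨η.1, hηV⟩
      let py := hV.primeIdealOf ⟨y, hyV⟩
      let pw := hV.primeIdealOf ⟨w, hwV⟩
      have hle : py.asIdeal ≤ pη.asIdeal := (AssLib.primeIdealOf_le_iff hV hηV hyV).2 hyη
      have hle' : pw.asIdeal ≤ py.asIdeal := (AssLib.primeIdealOf_le_iff hV hyV hwV).2 hw
      have hmemW : ∀ r : Spec Γ(F.E, V), r ∈ W ↔ hV.fromSpec r ∈ U := fun r => by
        refine ⟨fun h => h.1, fun h => ⟨h, ?_⟩⟩
        rw [← hV.range_fromSpec]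
        exact ⟨r, rfl⟩
      have hnW : ∀ (z : F.E) (hz : z ∈ V), hV.primeIdealOf ⟨z, hz⟩ ∈ W ↔ z ∈ U := fun z hz => by
        rw [hmemW, hV.fromSpec_primeIdealOf]
      have hh : pη.asIdeal.height ≤ 1 := S5161.result Γ(F.E, V) W hW pη (fun h => η.2 ((hnW _ hηV).1 h))
        fun r hr hrW => by
          have hrU : hV.fromSpec r ∈ (U : Set F.E)ᶜ := fun h => hrW ((hmemW r).2 h)
          have hspec : hV.fromSpec r ⤳ η.1 := by
            rw [← hV.fromSpec_primeIdealOf ⟨η.1, hηV⟩]
            exact ((PrimeSpectrum.le_iff_specializes r pη).1 hr).map hV.fromSpec.continuous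
          have heq := congrArg Subtype.val (hη ⟨_, hrU⟩ (Topology.IsInducing.subtypeVal.specializes_iff.1 hspec))
          exact hV.fromSpec.isOpenEmbedding.injective (heq.trans (hV.fromSpec_primeIdealOf ⟨η.1, hηV⟩).symm)
      by_contra hwy
      have h1 : pw.asIdeal < py.asIdeal := lt_of_le_of_ne hle' fun e =>
        hwy (AssLib.eq_of_primeIdealOf_eq hV hyV hwV e)
      have h2 : py.asIdeal < pη.asIdeal := lt_of_le_of_ne hle fun e =>
        η.2 ((AssLib.eq_of_primeIdealOf_eq hV hηV hyV e) ▸ hyU)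
      have h3 := (Ideal.height_add_one_le_of_lt_of_isPrime h2).trans hh
      have h4 := Ideal.height_add_one_le_of_lt_of_isPrime h1
      have h5 : pw.asIdeal.height + 1 + 1 ≤ 1 := (add_le_add h4 le_rfl).trans h3
      have h6 : (2 : ℕ∞) ≤ 1 := le_trans (by rw [add_assoc, one_add_one_eq_two]; exact le_add_self) h5
      exact absurd h6 (by norm_num)
    intro U hU U' hU' h
    ext x
    refine ⟨fun hx => ?_, fun hx => ?_⟩
    · by_contra hx'
      obtain ⟨z, hz, hzx⟩ := key U' hU'.1 hU'.2 x hx'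
      exact (show z ∈ M \ (U : Set F.E) from (Set.ext_iff.1 h z).2 hz).2 (hzx.mem_open U.isOpen hx)
    · by_contra hx'
      obtain ⟨z, hz, hzx⟩ := key U hU.1 hU.2 x hx'
      exact (show z ∈ M \ (U' : Set F.E) from (Set.ext_iff.1 h z).1 hz).2 (hzx.mem_open U'.isOpen hx)

include hS hemb in
/-- Two factorizations have a least common upper bound. -/
theorem exists_sup (F G : Fac f) : ∃ (H : Fac f) (vF : H.E ⟶ F.E) (vG : H.E ⟶ G.E),
    H.u ≫ vF = F.u ∧ H.u ≫ vG = G.u ∧ vF ≫ F.g = H.g ∧ vG ≫ G.g = H.g ∧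
    ∀ (E' : Scheme.{u}) (g' : E' ⟶ S) (u' : X ⟶ E') (w₁ : E' ⟶ F.E) (w₂ : E' ⟶ G.E),
      IsAffineHom g' → IsSchemeTheoreticallyDominant u' → u' ≫ g' = f →
      u' ≫ w₁ = F.u → u' ≫ w₂ = G.u → w₁ ≫ F.g = g' → w₂ ≫ G.g = g' →
      ∃ w : E' ⟶ H.E, u' ≫ w = H.u ∧ w ≫ vF = w₁ ∧ w ≫ vG = w₂ := by
  haveI := F.etale
  haveI := F.affine
  haveI := G.etale
  haveI := G.affine
  haveI : IsAffineHom (pullback.fst F.g G.g) := MorphismProperty.pullback_fst _ _ inferInstance
  haveI : IsAffineHom (pullback.fst F.g G.g ≫ F.g) := inferInstance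
  obtain ⟨E, j, u', hj, he, ha, hd, hfac, huniv⟩ := exists_image hS hemb f
    (pullback.fst F.g G.g ≫ F.g) (pullback.lift F.u G.u (by rw [F.fac, G.fac])) (by simp [F.fac])
  refine ⟨⟨E, j ≫ pullback.fst F.g G.g ≫ F.g, u', he, ha, hd, ?_⟩, j ≫ pullback.fst F.g G.g,
    j ≫ pullback.snd F.g G.g, ?_, ?_, by simp, by simp [pullback.condition],
    fun E' g' v w₁ w₂ hg' hv hfac' hw₁ hw₂ hg₁ hg₂ => ?_⟩
  · rw [reassoc_of% hfac]
    simp [F.fac]
  · show u' ≫ j ≫ _ = _
    rw [reassoc_of% hfac, pullback.lift_fst]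
  · show u' ≫ j ≫ _ = _
    rw [reassoc_of% hfac, pullback.lift_snd]
  · haveI : QuasiCompact v := by
      haveI : QuasiCompact (v ≫ g') := by rw [hfac']; infer_instance
      exact QuasiCompact.of_comp v g'
    obtain ⟨w, hw⟩ := huniv E' v (pullback.lift w₁ w₂ (hg₁.trans hg₂.symm)) hv inferInstance
      (by ext <;> simp [hw₁, hw₂])
    refine ⟨w, ?_, ?_, ?_⟩
    · show v ≫ w = u'
      rw [← cancel_mono j, Category.assoc, hw, hfac]
      ext <;> simp [hw₁, hw₂]
    · show w ≫ j ≫ _ = _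
      rw [reassoc_of% hw, pullback.lift_fst]
    · show w ≫ j ≫ _ = _
      rw [reassoc_of% hw, pullback.lift_snd]

include hemb in
/-- A nonempty directed family of factorizations has a greatest element. -/
theorem exists_greatest (T : Set (Fac f)) (hne : T.Nonempty)
    (hcl : ∀ F ∈ T, ∀ G ∈ T, ∃ H ∈ T, F.LE H ∧ G.LE H) : ∃ F ∈ T, ∀ G ∈ T, G.LE F := by
  haveI : IsLocallyNoetherian (pullback f f) :=
    LocallyOfFiniteType.isLocallyNoetherian (pullback.fst f f ≫ f)
  haveI : CompactSpace (pullback f f : Scheme.{u}) :=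
    QuasiCompact.compactSpace_of_compactSpace (pullback.fst f f ≫ f)
  haveI : IsNoetherian (pullback f f) := {}
  obtain ⟨A, ⟨⟨F₀, hF₀, rfl⟩, hmin⟩⟩ := Set.Finite.exists_minimal
    (finite_clopens.subset (by rintro _ ⟨F, -, rfl⟩; exact F.isClopen_K : Fac.K '' T ⊆ _)) (hne.image _)
  have hK : ∀ H ∈ T, F₀.LE H → F₀.K ⊆ H.K := fun H hH ⟨v, hv, hv'⟩ =>
    hmin ⟨H, hH, rfl⟩ (Fac.K_mono v hv hv')
  haveI := F₀.etale
  haveI := F₀.affine
  let 𝒰 : Set F₀.E.Opens :=
    {U | ∃ H ∈ T, ∃ v : H.E ⟶ F₀.E, H.u ≫ v = F₀.u ∧ v ≫ F₀.g = H.g ∧ (U : Set F₀.E) = Set.range v}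
  have h𝒰 : 𝒰.Finite := by
    refine (finite_shrinkings f hemb F₀).subset ?_
    rintro U ⟨H, hH, v, hv, hv', hU⟩
    haveI := H.affine
    haveI := isOpenImmersion_of_K_eq f hemb v hv hv' (hK H hH ⟨v, hv, hv'⟩)
    haveI : IsAffineHom (v ≫ F₀.g) := by rw [hv']; infer_instance
    haveI : IsAffineHom v := IsAffineHom.of_comp v F₀.g
    obtain rfl : U = v.opensRange := TopologicalSpace.Opens.ext hU
    refine ⟨?_, ?_⟩
    · rw [show v.opensRange.ι = v.isoOpensRange.inv ≫ v by simp]
      infer_instance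
    · rw [← hv]
      rintro _ ⟨x, rfl⟩
      exact ⟨H.u x, rfl⟩
  obtain ⟨U, ⟨⟨H₁, hH₁, v₁, hv₁, hv₁', hU⟩, hUmin⟩⟩ := Set.Finite.exists_minimal h𝒰
    ⟨⊤, F₀, hF₀, 𝟙 _, by simp, by simp, by simp⟩
  refine ⟨H₁, hH₁, fun G hG => ?_⟩
  obtain ⟨H, hH, hGH, v, hv, hv'⟩ := hcl G hG H₁ hH₁
  have hvv : H.u ≫ v ≫ v₁ = F₀.u := by rw [reassoc_of% hv, hv₁]
  have hvv' : (v ≫ v₁) ≫ F₀.g = H.g := by rw [Category.assoc, hv₁', hv']
  haveI := isOpenImmersion_of_K_eq f hemb v₁ hv₁ hv₁' (hK H₁ hH₁ ⟨v₁, hv₁, hv₁'⟩)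
  haveI := isOpenImmersion_of_K_eq f hemb v hv hv'
    ((Fac.K_mono v₁ hv₁ hv₁').trans (hK H hH ⟨v ≫ v₁, hvv, hvv'⟩))
  have hle : U ≤ (v ≫ v₁).opensRange := hUmin ⟨H, hH, v ≫ v₁, hvv, hvv', rfl⟩ fun x hx => by
    obtain ⟨y, rfl⟩ := hx
    exact (Set.ext_iff.1 hU _).2 ⟨v y, rfl⟩
  haveI : Surjective v := ⟨fun y => by
    obtain ⟨z, hz⟩ := hle (show v₁ y ∈ U from (Set.ext_iff.1 hU _).2 ⟨y, rfl⟩)
    exact ⟨z, v₁.isOpenEmbedding.injective hz⟩⟩
  haveI : IsIso v := (isIso_iff_isOpenImmersion_and_epi_base (f := v)).2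
    ⟨inferInstance, (TopCat.epi_iff_surjective _).2 v.surjective⟩
  exact hGH.trans ⟨inv v, by rw [IsIso.comp_inv_eq, hv], by rw [IsIso.inv_comp_eq, hv']⟩

end Groth.Agent.EtHull5
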