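import Groth.Agent.EtHull5.Open
import Groth.Agent.AlgStLib.MonoFactorLft
import Groth.Agent.SrcDescent.SmoothFppf
import Groth.Agent.MorLib.FormallyEtaleHom
import Mathlib.AlgebraicGeometry.Morphisms.Etale

/-!
# The étale image of a flat scheme in a formally unramified one
-/

set_option autoImplicit false
set_option backward.isDefEq.respectTransparency false
set_option backward.isDefEq.respectTransparency.types false

universe u

open CategoryTheory CategoryTheory.Limits AlgebraicGeometry TopologicalSpace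

namespace Groth.Agent.EtHull5

variable {X Y E S : Scheme.{u}}

/-- A flat morphism of finite presentation over a formally unramified scheme over a Noetherian one is an
fppf surjection onto an étale scheme followed by a monomorphism. -/
theorem exists_etale_image [IsNoetherian S] (b : Y ⟶ S) [FormallyUnramified b] (h : X ⟶ Y) [Flat (h ≫ b)]
    [LocallyOfFinitePresentation (h ≫ b)] [QuasiCompact (h ≫ b)] :
    ∃ (E : Scheme.{u}) (u : X ⟶ E) (m : E ⟶ Y), Etale (m ≫ b) ∧ Flat u ∧ Surjective u ∧
      LocallyOfFinitePresentation u ∧ Mono m ∧ u ≫ m = h ∧ IsNoetherian E ∧ IsNoetherian X := by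
  haveI : LocallyOfFiniteType h := locallyOfFiniteType_of_comp h b
  haveI : IsLocallyNoetherian (pullback (h ≫ b) (h ≫ b)) :=
    LocallyOfFiniteType.isLocallyNoetherian (pullback.fst (h ≫ b) (h ≫ b) ≫ (h ≫ b))
  haveI := isOpenImmersion_mapDesc h h b
  have e₁ : pullback.mapDesc h h b ≫ pullback.fst (h ≫ b) (h ≫ b) = pullback.fst h h := by
    simp [pullback.mapDesc]
  have e₂ : pullback.mapDesc h h b ≫ pullback.snd (h ≫ b) (h ≫ b) = pullback.snd h h := by
    simp [pullback.mapDesc]
  haveI : Flat (pullback.fst h h) := by rw [← e₁]; infer_instance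
  haveI : LocallyOfFinitePresentation (pullback.fst h h) := by rw [← e₁]; infer_instance
  haveI : LocallyOfFinitePresentation (pullback.snd h h) := by rw [← e₂]; infer_instance
  obtain ⟨E, u, m, hus, huf, hul, hm, hum⟩ := AlgStLib.MonoFactorLft.exists_factor h
  haveI : Flat (u ≫ m ≫ b) := by rw [reassoc_of% hum]; infer_instance
  haveI : LocallyOfFinitePresentation (u ≫ m ≫ b) := by rw [reassoc_of% hum]; infer_instance
  haveI : Flat (m ≫ b) := SrcDescent.flat_of_fppf_comp u (m ≫ b)
  haveI : LocallyOfFinitePresentation (m ≫ b) := SrcDescent.locallyOfFinitePresentation_of_fppf_comp u (m ≫ b)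
  haveI : IsIso (pullback.diagonal m) := inferInstance
  haveI : FormallyUnramified m := inferInstance
  haveI : FormallyUnramified (m ≫ b) := MorphismProperty.comp_mem _ _ _ ‹_› ‹_›
  haveI : CompactSpace X := QuasiCompact.compactSpace_of_compactSpace (h ≫ b)
  haveI : CompactSpace E := Function.Surjective.compactSpace u.continuous u.surjective
  haveI : IsLocallyNoetherian E := LocallyOfFiniteType.isLocallyNoetherian (m ≫ b)
  haveI : IsLocallyNoetherian X := LocallyOfFiniteType.isLocallyNoetherian (h ≫ b)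
  exact ⟨E, u, m, Etale.of_formallyUnramified_of_flat _, huf, hus, hul, hm, hum, {}, {}⟩

/-- A monomorphism from an étale scheme to a formally unramified one is formally étale. -/
theorem formallyEtale_appLE (b : Y ⟶ S) [FormallyUnramified b] (m : E ⟶ Y) [Etale (m ≫ b)]
    (V : Y.Opens) (hV : IsAffineOpen V) (U : E.Opens) (hU : IsAffineOpen U) (e : U ≤ m ⁻¹ᵁ V) :
    (m.appLE V U e).hom.FormallyEtale := by
  have he : MoreMor.IsFormallyEtaleHom (m ≫ b) := (MorLib.isFormallyEtaleHom_iff_appLE _).2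
    fun U V hU hV hUV => by
      have h := HasRingHomProperty.appLE @Etale (m ≫ b) ‹_› ⟨V, hV⟩ ⟨U, hU⟩ hUV
      exact h.formallyEtale
  have hm : MoreMor.IsFormallyEtaleHom m := by
    intro A _ I hI a c w
    obtain ⟨l, ⟨hl₁, hl₂⟩, hl⟩ := he A I hI a (c ≫ b) (by rw [reassoc_of% w])
    haveI : IsClosedImmersion (Spec.map (CommRingCat.ofHom (Ideal.Quotient.mk I))) :=
      IsClosedImmersion.spec_of_surjective _ Ideal.Quotient.mk_surjective
    have e : l ≫ m = c := FormallyUnramified.hom_ext (Spec.map (CommRingCat.ofHom (Ideal.Quotient.mk I)))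
      (Groth.Agent.H23.EqvUnr.ker_SpecMap_sq _ (by
        show RingHom.ker (Ideal.Quotient.mk I) ^ 2 = ⊥
        rw [Ideal.mk_ker, hI])) b (by rw [reassoc_of% hl₁, w]) (by rw [Category.assoc, hl₂])
    exact ⟨l, ⟨hl₁, e⟩, fun l' hl' => hl l' ⟨hl'.1, by rw [reassoc_of% hl'.2]⟩⟩
  exact (MorLib.isFormallyEtaleHom_iff_appLE m).1 hm U V hU hV e

/-- A faithfully flat quasi-compact morphism coequalizes its kernel pair. -/
theorem exists_unique_factor {E' : Scheme.{u}} (u : X ⟶ E) [Flat u] [Surjective u] [QuasiCompact u]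
    (m : E ⟶ Y) (u' : X ⟶ E') (m' : E' ⟶ Y) [Mono m'] (hh : u ≫ m = u' ≫ m') :
    ∃! i : E ⟶ E', u ≫ i = u' ∧ i ≫ m' = m := by
  haveI : EffectiveEpi u := inferInstance
  have hc : ∀ {Z : Scheme.{u}} (g₁ g₂ : Z ⟶ X), g₁ ≫ u = g₂ ≫ u → g₁ ≫ u' = g₂ ≫ u' :=
    fun g₁ g₂ h => by
      rw [← cancel_mono m', Category.assoc, Category.assoc, ← hh, reassoc_of% h]
  refine ⟨EffectiveEpi.desc u u' hc, ⟨EffectiveEpi.fac _ _ _, ?_⟩, fun i hi => ?_⟩
  · rw [← cancel_epi u, reassoc_of% EffectiveEpi.fac u u' hc, hh]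
  · rw [← cancel_epi u, hi.1, EffectiveEpi.fac]

end Groth.Agent.EtHull5
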