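import Groth.Agent.EtHull5.Image
import Groth.Agent.EtHull5.Basic

/-!
# Initial étale schemes are initial among formally unramified schemes
-/

set_option autoImplicit false
set_option backward.isDefEq.respectTransparency false
set_option backward.isDefEq.respectTransparency.types false

universe u

open CategoryTheory CategoryTheory.Limits AlgebraicGeometry TopologicalSpace

namespace Groth.Agent.EtHull5

variable {X P S : Scheme.{u}} [IsNoetherian S] (a : X ⟶ S) [Flat a] [LocallyOfFinitePresentation a]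
  [QuasiCompact a] (c : P ⟶ S) [Etale c] [QuasiCompact c] (ϖ : X ⟶ P) (hϖ : ϖ ≫ c = a)
  (hinit : ∀ (E : Scheme.{u}) (e : E ⟶ S), Etale e → QuasiCompact e → QuasiSeparated e →
      ∀ k : X ⟶ E, k ≫ e = a → ∃! l : P ⟶ E, ϖ ≫ l = k ∧ l ≫ e = c)

include hϖ hinit in
/-- The map to an initial étale scheme is an epimorphism. -/
theorem epi_initial : Epi ϖ := by
  subst hϖ
  haveI : CompactSpace X := QuasiCompact.compactSpace_of_compactSpace (ϖ ≫ c)
  haveI : CompactSpace P := QuasiCompact.compactSpace_of_compactSpace c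
  haveI : IsLocallyNoetherian P := LocallyOfFiniteType.isLocallyNoetherian c
  haveI : AlgebraicGeometry.IsNoetherian P := {}
  obtain ⟨_, _⟩ := flat_lfp_of_comp_etale c ϖ
  let U : P.Opens := ⟨Set.range ϖ, ϖ.isOpenMap.isOpen_range⟩
  have hk : Set.range ϖ ⊆ Set.range U.ι := by rw [Scheme.Opens.range_ι]; exact subset_rfl
  haveI : QuasiCompact (U.ι ≫ c) := inferInstance
  haveI : QuasiSeparated (U.ι ≫ c) := inferInstance
  obtain ⟨l, ⟨hl₁, hl₂⟩, -⟩ := hinit U (U.ι ≫ c) inferInstance ‹_› ‹_› (IsOpenImmersion.lift U.ι ϖ hk)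
    (by rw [IsOpenImmersion.lift_fac_assoc])
  haveI : QuasiSeparated c := inferInstance
  have h1 : l ≫ U.ι = 𝟙 P := (hinit P c inferInstance ‹_› ‹_› ϖ rfl).unique
    ⟨by rw [reassoc_of% hl₁, IsOpenImmersion.lift_fac], by rw [Category.assoc, hl₂]⟩
    ⟨Category.comp_id _, Category.id_comp _⟩
  haveI : Surjective ϖ := ⟨fun p => by
    obtain ⟨x, hx⟩ : p ∈ Set.range ϖ := by
      have := (l p).2
      rwa [show p = U.ι (l p) by rw [← Scheme.Hom.comp_apply, h1]; rfl]
    exact ⟨x, hx⟩⟩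
  haveI : QuasiCompact ϖ := quasiCompact_of_compactSpace ϖ
  haveI : EffectiveEpi ϖ := inferInstance
  infer_instance

include hϖ hinit in
/-- An initial étale scheme is initial among formally unramified schemes. -/
theorem existsUnique_desc {Y : Scheme.{u}} (b : Y ⟶ S) [FormallyUnramified b] (k : X ⟶ Y)
    (hk : k ≫ b = a) : ∃! l : P ⟶ Y, ϖ ≫ l = k ∧ l ≫ b = c := by
  haveI := epi_initial a c ϖ hϖ hinit
  subst hk
  obtain ⟨E, u, m, he, -, -, -, -, hum, hE, -⟩ := exists_etale_image b k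
  haveI : QuasiCompact (m ≫ b) := quasiCompact_of_compactSpace _
  haveI : QuasiSeparated (m ≫ b) := inferInstance
  obtain ⟨l, ⟨hl₁, hl₂⟩, -⟩ := hinit E (m ≫ b) he ‹_› ‹_› u (by rw [reassoc_of% hum])
  refine ⟨l ≫ m, ⟨by rw [reassoc_of% hl₁, hum], by rw [Category.assoc, hl₂]⟩, fun l' hl' => ?_⟩
  rw [← cancel_epi ϖ, hl'.1, reassoc_of% hl₁, hum]

end Groth.Agent.EtHull5
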