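import Groth.Agent.H23.EqvUnr
import Mathlib.AlgebraicGeometry.Morphisms.FormallyUnramified
import Mathlib.AlgebraicGeometry.Morphisms.Immersion
import Mathlib.RingTheory.Ideal.IdempotentFG

/-!
# Diagonals of formally unramified morphisms after base change to a Noetherian scheme
-/

set_option autoImplicit false
set_option backward.isDefEq.respectTransparency false
set_option backward.isDefEq.respectTransparency.types false

universe u

open CategoryTheory CategoryTheory.Limits AlgebraicGeometry TopologicalSpace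

namespace Groth.Agent.EtHull5

/-- Square-zero lifting: a map to the target factors if its restriction to the thickened scheme does. -/
def ThickLift {R Q : Scheme.{u}} (ι : R ⟶ Q) : Prop :=
  ∀ (A B : CommRingCat.{u}) (φ : A ⟶ B), Function.Surjective φ → RingHom.ker φ.hom ^ 2 = ⊥ →
    ∀ (t : Spec A ⟶ Q) (t₀ : Spec B ⟶ R), Spec.map φ ≫ t = t₀ ≫ ι → ∃ l : Spec A ⟶ R, l ≫ ι = t

theorem ThickLift.of_isPullback {R R' Q Q' : Scheme.{u}} {ι : R ⟶ Q} {ι' : R' ⟶ Q'} {g' : R' ⟶ R}
    {g : Q' ⟶ Q} (sq : IsPullback g' ι' ι g) (H : ThickLift ι) : ThickLift ι' := by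
  intro A B φ hφ hk t t₀ h
  obtain ⟨l, hl⟩ := H A B φ hφ hk (t ≫ g) (t₀ ≫ g') (by rw [reassoc_of% h, Category.assoc, sq.w])
  exact ⟨sq.lift l t hl, sq.lift_snd _ _ _⟩

/-- A closed immersion with square-zero lifting into a Noetherian scheme is an open immersion. -/
theorem isOpenImmersion_of_closedImmersion {R Q : Scheme.{u}} (κ : R ⟶ Q) [IsClosedImmersion κ]
    [IsLocallyNoetherian Q] (H' : ThickLift κ) : IsOpenImmersion κ := by
  rw [IsZariskiLocalAtTarget.iff_of_iSup_eq_top (P := @IsOpenImmersion) _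
    (iSup_affineOpens_eq_top _)]
  intro U
  have hN : IsNoetherianRing Γ(_, U.1) := IsLocallyNoetherian.component_noetherian U
  have H₁ := H'.of_isPullback (isPullback_morphismRestrict κ U.1).flip
  have hcl : IsClosedImmersion (κ ∣_ U.1 ≫ U.2.isoSpec.hom) := inferInstance
  suffices IsOpenImmersion (κ ∣_ U.1 ≫ U.2.isoSpec.hom) from
    (MorphismProperty.cancel_right_of_respectsIso (P := @IsOpenImmersion) _ _).1 this
  obtain ⟨I, e, he⟩ := IsClosedImmersion.Spec_iff.1 hcl
  have hI : IsIdempotentElem I := by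
    refine le_antisymm Ideal.mul_le_right ?_
    rw [← pow_two]
    let A := CommRingCat.of (Γ(_, U.1) ⧸ (I ^ 2))
    let B := CommRingCat.of (Γ(_, U.1) ⧸ I)
    let φ : A ⟶ B := CommRingCat.ofHom (Ideal.Quotient.factor (Ideal.pow_le_self two_ne_zero))
    have hk : RingHom.ker φ.hom ^ 2 = ⊥ := by
      show RingHom.ker (Ideal.Quotient.factor (Ideal.pow_le_self (I := I) two_ne_zero)) ^ 2 = ⊥
      rw [Ideal.Quotient.factor_ker, ← Ideal.map_pow, Ideal.map_quotient_self]
    obtain ⟨l, hl⟩ := H₁ A B φ (Ideal.Quotient.factor_surjective (Ideal.pow_le_self two_ne_zero)) hk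
      (Spec.map (CommRingCat.ofHom (Ideal.Quotient.mk (I ^ 2))) ≫ U.2.isoSpec.inv) e.inv (by
        rw [← cancel_mono U.2.isoSpec.hom, Category.assoc, Category.assoc, Category.assoc,
          Iso.inv_hom_id, Category.comp_id, he, Iso.inv_hom_id_assoc, ← Spec.map_comp]
        rfl)
    obtain ⟨ψ, hψ⟩ := Spec.map_surjective (l ≫ e.hom)
    have h := congrArg (· ≫ U.2.isoSpec.hom) hl
    simp only [Category.assoc, Iso.inv_hom_id, Category.comp_id] at h
    rw [he, ← Category.assoc, ← hψ, ← Spec.map_comp, Spec.map_inj] at h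
    intro x hx
    rw [← Ideal.Quotient.eq_zero_iff_mem]
    have h' := congrArg (fun f => f.hom x) h
    simp only [CommRingCat.hom_comp, CommRingCat.hom_ofHom, RingHom.comp_apply,
      Ideal.Quotient.eq_zero_iff_mem.2 hx, map_zero] at h'
    exact h'.symm
  rw [he]
  have : IsOpenImmersion (Spec.map (CommRingCat.ofHom (Ideal.Quotient.mk I))) := by
    rw [isOpenImmersion_SpecMap_iff_of_surjective _ Ideal.Quotient.mk_surjective]
    simpa using (Ideal.isIdempotentElem_iff_of_fg I (IsNoetherian.noetherian I)).mp hI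
  infer_instance

/-- An immersion with square-zero lifting into a Noetherian scheme is an open immersion. -/
theorem isOpenImmersion_of_immersion {R Q : Scheme.{u}} (ι : R ⟶ Q) [IsImmersion ι]
    [IsLocallyNoetherian Q] (H : ThickLift ι) : IsOpenImmersion ι := by
  have sq : IsPullback (𝟙 R) ι.liftCoborder ι ι.coborderRange.ι :=
    ⟨⟨by rw [Category.id_comp, Scheme.Hom.liftCoborder_ι]⟩, ⟨PullbackCone.IsLimit.mk _ (fun s => s.fst)
      (fun s => Category.comp_id _) (fun s => by
        rw [← cancel_mono ι.coborderRange.ι, Category.assoc, Scheme.Hom.liftCoborder_ι]; exact s.condition)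
      (fun s m h₁ _ => by rw [← h₁, Category.comp_id])⟩⟩
  have := isOpenImmersion_of_closedImmersion ι.liftCoborder (H.of_isPullback sq)
  rw [← ι.liftCoborder_ι]
  infer_instance

/-- The base change of the diagonal of a formally unramified morphism to a Noetherian scheme is an
open immersion. -/
theorem isOpenImmersion_mapDesc {X X' Y S : Scheme.{u}} (h : X ⟶ Y) (h' : X' ⟶ Y) (b : Y ⟶ S)
    [FormallyUnramified b] [IsLocallyNoetherian (pullback (h ≫ b) (h' ≫ b))] :
    IsOpenImmersion (pullback.mapDesc h h' b) := by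
  refine isOpenImmersion_of_immersion _ fun A B φ hφ hk t t₀ w => ?_
  have : IsClosedImmersion (Spec.map φ) := IsClosedImmersion.spec_of_surjective φ hφ
  have w₁ := congrArg (· ≫ pullback.fst (h ≫ b) (h' ≫ b)) w
  have w₂ := congrArg (· ≫ pullback.snd (h ≫ b) (h' ≫ b)) w
  simp only [Category.assoc, pullback.mapDesc, pullback.lift_fst, pullback.lift_snd,
    Category.comp_id] at w₁ w₂
  have e : (t ≫ pullback.fst _ _) ≫ h = (t ≫ pullback.snd _ _) ≫ h' :=
    FormallyUnramified.hom_ext (Spec.map φ) (Groth.Agent.H23.EqvUnr.ker_SpecMap_sq φ hk) b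
      (by simp only [Category.assoc]; rw [reassoc_of% w₁, reassoc_of% w₂, pullback.condition])
      (by simp only [Category.assoc]; rw [pullback.condition])
  refine ⟨pullback.lift (t ≫ pullback.fst _ _) (t ≫ pullback.snd _ _) e, ?_⟩
  ext <;> simp [pullback.mapDesc]

end Groth.Agent.EtHull5
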