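import Groth.Agent.FrobSchLib.Basic
import Groth.Agent.FrobCorr5.Frob
import Groth.Agent.EtFound.TopInv
import Mathlib.AlgebraicGeometry.Morphisms.FormallyUnramified

/-!
# Étale implies relatively perfect implies formally unramified
-/

set_option autoImplicit false
set_option backward.isDefEq.respectTransparency false
set_option backward.isDefEq.respectTransparency.types false

universe u

open CategoryTheory CategoryTheory.Limits AlgebraicGeometry

namespace Groth.Agent.EtHull5

variable (p : ℕ) [Fact p.Prime] {X S : Scheme.{u}} [FrobSch.IsCharP S p]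

/-- An étale morphism is relatively perfect. -/
theorem isIso_relFrob_of_etale (c : X ⟶ S) [Etale c] : IsIso (FrobSch.relFrob c p) := by
  haveI : Etale (pullback.snd c (FrobSch.frob S p)) := inferInstance
  haveI : Etale (FrobSch.relFrob c p ≫ pullback.snd c (FrobSch.frob S p)) := by
    rw [FrobSch.relFrob_snd]; infer_instance
  haveI : Etale (FrobSch.relFrob c p) := Etale.of_comp _ (pullback.snd c (FrobSch.frob S p))
  haveI := FrobSchLib.universallyInjective_relFrob p c
  haveI := EtFound.isOpenImmersion_of_etale_univInj (FrobSch.relFrob c p)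
  haveI : FrobSch.IsCharP X p := FrobSch.IsCharP.of_hom c p
  haveI := FrobSchLib.universallyInjective_frob p S
  haveI : UniversallyInjective (pullback.fst c (FrobSch.frob S p)) :=
    MorphismProperty.pullback_fst _ _ inferInstance
  have : Surjective (FrobSch.relFrob c p) := ⟨fun z => ⟨pullback.fst c (FrobSch.frob S p) z,
    (pullback.fst c (FrobSch.frob S p)).injective (by
      rw [← Scheme.Hom.comp_apply, FrobSch.relFrob_fst]; rfl)⟩⟩
  exact (isIso_iff_isOpenImmersion_and_surjective _).2 ⟨inferInstance, inferInstance⟩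

/-- A morphism with monomorphic relative Frobenius is formally unramified. -/
theorem formallyUnramified_of_mono_relFrob (b : X ⟶ S) [Mono (FrobSch.relFrob b p)] :
    FormallyUnramified b := by
  haveI : FrobSch.IsCharP X p := FrobSch.IsCharP.of_hom b p
  refine FormallyUnramified.of_hom_ext b fun R T φ hφ hk g₁ g₂ h₀ hb => ?_
  haveI : FrobSch.IsCharP (Spec R) p := FrobSch.IsCharP.of_hom (g₁ ≫ b) p
  have hR : (p : R) = 0 := by
    have := congrArg (Scheme.ΓSpecIso R).hom.hom (FrobSch.IsCharP.natCast_eq_zero (X := Spec R) (p := p))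
    rwa [map_natCast, map_zero] at this
  let P := FrobSch.powHom p R hR
  have hP : RingHom.ker φ.hom ≤ RingHom.ker P := fun x hx => by
    have : x ^ p ∈ RingHom.ker φ.hom ^ 2 :=
      Ideal.pow_le_pow_right (Fact.out : p.Prime).two_le (Ideal.pow_mem_pow hx p)
    rw [hk, Ideal.mem_bot] at this
    rw [RingHom.mem_ker]
    exact this
  let ψ : T ⟶ R := CommRingCat.ofHom (RingHom.liftOfSurjective φ.hom hφ ⟨P, hP⟩)
  have hψ : CommRingCat.ofHom P = φ ≫ ψ := by
    apply CommRingCat.hom_ext
    exact (RingHom.liftOfRightInverse_comp φ.hom _ (Function.rightInverse_surjInv hφ) ⟨P, hP⟩).symm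
  rw [← cancel_mono (FrobSch.relFrob b p)]
  apply pullback.hom_ext
  · rw [Category.assoc, Category.assoc, FrobSch.relFrob_fst, ← FrobSch.frob_comp p g₁,
      ← FrobSch.frob_comp p g₂, FrobCorr5.frob_Spec p R hR, hψ, Spec.map_comp, Category.assoc,
      Category.assoc, h₀]
  · rw [Category.assoc, Category.assoc, FrobSch.relFrob_snd, hb]

end Groth.Agent.EtHull5
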